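/-
The affine plane of order three.
-/
import Cfsg.Agent.Lib.ThreeTransp.SolLink.Words

set_option autoImplicit false
set_option maxRecDepth 100000

namespace CfsgLib.ThreeTransp.SolLink

open CosetCert CfsgLib.Presentations.SUPres

/-- Relators. -/
def relPlane : List HRel := [
  (0, [], 1, 3),
  (0, [], 2, 3),
  (0, [2], 1, 3),
  (1, [], 0, 3),
  (1, [], 2, 3)]

/-- Packed images. -/
def tblPlane : List ℕ := [
  0x647358824572186731065403210]

/-- Packed representative words. -/
def repPlane : List ℕ := [
  0x2ed8b1ce183080]

/-- Packed tree edges. -/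
def treePlane : List ℕ := [
  0xec876432]

/-- Packed deductions. -/
def stepsPlane : List ℕ := [
  0x4d152140218ca244]

/-- The table. -/
def dataPlane : Data where
  n := 9
  ng := 3
  iv g := g
  tbl i g := look tblPlane 4 125 (i * 3 + g)
  rep i := wordOf 4 (look repPlane 6 83 i)
  rels := relPlane.map hWord
  subs := [[0], [2, 0, 1, 2, 0, 1]]

theorem checkPlane : check dataPlane (unpack treePlane 4 125 (fun x => (x / 3, x % 3)) 8)
    (unpack stepsPlane 9 55 (fun x => (x / 128, x / 16 % 8, x % 16)) 7) = true := by
  decide +kernel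

end CfsgLib.ThreeTransp.SolLink
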